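import Cfsg.Agent.ODD.QB.Rgd
import Cfsg.Agent.ODD.PX.D4_m3
import Cfsg.Agent.H775.Sd.ChevElem_mg_m3
import Cfsg.Agent.FastGrp
import Cfsg.Agent.Prune
set_option linter.all false
prune_inst 0x7f00000000000000000000000000000000000000000000000000000000000000000000000000000000000000000000000000000000000000000000000000000000000000000000000000000000000000003fffffffffffffffffffffffffffbeffbdffffffff
open scoped Cfsg.Agent.FastGrp

/-!
# ODD, box QB: frames of roots (helper9)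

* `zc H`: the centre of a subgroup; `Nd R x Φ`: the centres of `X x`, `X (-x)` generate the image of `SL₂(k)`;
* `exists_fr`: the frame of a family of nodes;
* `qb_of_roots`, `qb_of_frameData`, `qb_of_count`: `QB Y`.
-/

set_option autoImplicit false
set_option linter.unusedSectionVars false

namespace Cfsg.Agent.ODD.QB

open Cfsg Matrix CoxeterSystem Cfsg.Agent.ChevalleyStructure.CoxeterGeom Cfsg.Agent.Tits.Roots Cfsg.Agent.Nodes.Reps
  Cfsg.Agent.Nodes.BNOf Cfsg.Agent.Nodes.Bruhat Cfsg.Agent.KFacts.RgdAut Cfsg.Agent.KFacts.RgdDiag Cfsg.Agent.H310.OQ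
  Cfsg.Agent.ClosedExc.Frame

theorem sl2_bru {k : Type} [Field k] (s : SpecialLinearGroup (Fin 2) k) :
    ∃ (a b : k) (c : kˣ), s = uu a * dd c * uu b ∨ s = uu a * (dd c * ww) * uu b := by
  by_cases hc : s.1 1 0 = 0
  · obtain ⟨c, t, e⟩ := Cv.eq_dd_uu s hc
    exact ⟨0, t, c, Or.inl (by rw [uu_zero, one_mul, e])⟩
  · obtain ⟨c, h1⟩ : ∃ c : kˣ, ((c⁻¹ : kˣ) : k) = -s.1 1 0 := ⟨(Units.mk0 _ (neg_ne_zero.2 hc))⁻¹, rfl⟩
    have h3 := ww_conj c
    rw [h1, Cv.ww_uu_ww, neg_neg] at h3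
    obtain ⟨a, b, e⟩ : ∃ a b, s = uu a * ll (s.1 1 0) * uu b := ⟨_, _, uu_ll_uu s hc⟩
    refine ⟨a + -c, -c + b, c, Or.inr (e.trans ?_)⟩
    rw [h3, ← uu_mul, ← uu_mul]
    simp only [mul_assoc]

section gen

variable {Y : Type} [Group Y]

/-- the centre of a subgroup -/
def zc (H : Subgroup Y) : Subgroup Y := H ⊓ Subgroup.centralizer (H : Set Y)

theorem mem_zc {H : Subgroup Y} {y : Y} : y ∈ zc H ↔ y ∈ H ∧ ∀ x ∈ H, x * y = y * x := Iff.rfl

theorem zc_iff {γ : MulAut Y} {H K : Subgroup Y} (hHK : ∀ y, γ y ∈ K ↔ y ∈ H) (y : Y) : γ y ∈ zc K ↔ y ∈ zc H := by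
  rw [mem_zc, mem_zc, hHK]
  refine and_congr_right fun _ => ⟨fun h x hx => γ.injective ?_, fun h x hx => ?_⟩
  · rw [map_mul, map_mul, h _ ((hHK x).2 hx)]
  · obtain ⟨x, rfl⟩ := γ.surjective x
    rw [← map_mul, ← map_mul, h x ((hHK x).1 hx)]

theorem zc_cj {g : Y} {H K : Subgroup Y} (e : cj g H = K) (y : Y) : g * y * g⁻¹ ∈ zc K ↔ y ∈ zc H :=
  zc_iff (γ := MulAut.conj g) (fun y => by rw [← e]; exact conj_mem_cj) y

theorem cj_zc {g : Y} {H K : Subgroup Y} (e : cj g H = K) : cj g (zc H) = zc K := by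
  ext y
  rw [mem_cj, ← zc_cj e, show g * (g⁻¹ * y * g) * g⁻¹ = y by group]

variable [Finite Y] {ι : Type} [Fintype ι] {U T : Subgroup Y} {Z : ι × Bool → Subgroup Y} {m : ι → Y}

theorem exists_acts (hinj : Function.Injective Z) {γ : MulAut Y} (b : ι → ι) (e : ι → Bool)
    (h : ∀ a s y, γ y ∈ Z (b a, xor (e a) s) ↔ y ∈ Z (a, s)) : ∃ π, Acts Z γ π ∧ ∀ a, (π (a, true)).1 = b a := by
  let f : ι × Bool → ι × Bool := fun x => (b x.1, xor (e x.1) x.2)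
  have h1 : ∀ x y, γ y ∈ Z (f x) ↔ y ∈ Z x := fun x y => h x.1 x.2 y
  have hf : Function.Injective f := fun x x' hx => hinj (Subgroup.ext fun y => by rw [← h1 x, ← h1 x', hx])
  refine ⟨Equiv.ofBijective f (Finite.injective_iff_bijective.1 hf), ⟨fun a s => ?_, h1⟩, fun _ => rfl⟩
  show (b a, xor (e a) (!s)) = (b a, !(xor (e a) s))
  cases e a <;> cases s <;> rfl

/-- **The order of the stabiliser of a frame.** -/
theorem Fr.dvd_card (F : Fr U T Z m) {c : ℕ}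
    (hc : ∀ a, Nat.card (Set.range fun g : KK Z a => cj (g : Y) (Z (a, true))) = c)
    (hσ : ∀ σ : Equiv.Perm ι, ∃ g ∈ Subgroup.normalizer (T : Set Y), ∃ π, Acts Z (MulAut.conj g) π ∧
      ∀ a, (π (a, true)).1 = σ a) :
    Nat.card T * c ^ Fintype.card ι * (Fintype.card ι).factorial ∣
      Nat.card ↥((⨆ a, KK Z a) ⊔ (NH T Z).comap MulAut.conj) := by
  classical
  choose π hπ using fun γ : NH T Z => γ.2.2
  have h1 : ∀ (γ : NH T Z) a s, (π γ (a, s)).1 = (π γ (a, true)).1 := fun γ a s => by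
    cases s
    · rw [show (a, false) = (a, !true) from rfl, (hπ γ).1]
    · rfl
  let φ : NH T Z →* Function.End ι :=
    { toFun := fun γ a => (π γ (a, true)).1
      map_one' := by
        rw [F.acts_unique (hπ 1) (ψ := 1) ⟨fun _ _ => rfl, fun _ _ => Iff.rfl⟩]
        rfl
      map_mul' := fun γ δ => by
        rw [F.acts_unique (hπ (γ * δ)) ((hπ γ).mul (hπ δ))]
        exact funext fun a => h1 γ _ _ }
  let f : ↥((NH T Z).comap MulAut.conj) →* Equiv.Perm ι :=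
    φ.toHomPerm.comp (MonoidHom.subgroupComap MulAut.conj (NH T Z))
  have h2 : ∀ (x : ↥((NH T Z).comap MulAut.conj)) ψ, Acts Z (MulAut.conj (x : Y)) ψ → ∀ a, f x a = (ψ (a, true)).1 :=
    fun x ψ hψ a => by
      rw [← F.acts_unique (hπ ⟨_, x.2⟩) hψ]
      rfl
  have h3 : ∀ t (ht : t ∈ T), f ⟨t, F.conj_T ht⟩ = 1 := fun t ht => Equiv.ext (h2 _ _ (F.acts_T ht))
  have h4 := F.ind (L := f.ker.map (Subgroup.subtype _)) (fun a t ht => ⟨_, h3 t ht.1, rfl⟩) fun a =>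
    ⟨⟨_, F.conj_m a⟩, Equiv.ext fun b => (h2 _ _ (F.acts_m a) b).trans (by
      rw [Equiv.swap_apply_def]
      split_ifs with h5 h6
      · exact (congrArg Prod.fst h5).symm
      · exact (congrArg Prod.fst h6).symm
      · rfl), rfl⟩
  have hn : ∀ r ∈ (NH T Z).comap MulAut.conj, ∀ y ∈ ⨆ a, KK Z a, r * y * r⁻¹ ∈ ⨆ a, KK Z a :=
    fun r hr y hy => Fr.map_K hr hy
  obtain ⟨g, hg, hg'⟩ := exists_ext hn f fun x hx => by
    obtain ⟨y, hy, e⟩ := h4 ⟨hx, fix_conj.1 x.2.1⟩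
    rw [← show y = x from Subtype.ext e]
    exact hy
  have h5 : g.range = ⊤ := eq_top_iff.2 fun σ _ => by
    obtain ⟨x, hx, ψ, h6, h7⟩ := hσ σ
    have h8 : x ∈ (NH T Z).comap MulAut.conj := ⟨fix_conj.2 hx, ψ, h6⟩
    exact ⟨_, (hg x h8).trans (Equiv.ext fun a => (h2 _ _ h6 a).trans (h7 a))⟩
  have hT : T ≤ (NH T Z).comap MulAut.conj := fun t ht => F.conj_T ht
  rw [← g.ker.card_mul_index, Subgroup.index_ker, h5, Subgroup.card_top, Nat.card_eq_fintype_card (α := Equiv.Perm ι),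
    Fintype.card_perm]
  refine mul_dvd_mul ?_ dvd_rfl
  have h6 : (⨆ a, KK Z a) ⊔ T ≤ g.ker.map (Subgroup.subtype _) :=
    sup_le (fun y hy => ⟨_, hg' y hy, rfl⟩) fun t ht => ⟨_, (hg t (hT ht)).trans (h3 t ht), rfl⟩
  rw [← Subgroup.card_map_of_injective (Subgroup.subtype_injective _)]
  refine dvd_trans ?_ (Subgroup.card_dvd_of_le h6)
  have h7 := ClosedExc.Prod.card_sup_mul' (K := ⨆ a, KK Z a) (H := T) fun t ht =>
    Subgroup.mem_normalizer_iff.2 fun y => ⟨hn t (hT ht) y, fun hy => by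
      have h8 := hn _ (inv_mem (hT ht)) _ hy
      rwa [show t⁻¹ * (t * y * t⁻¹) * t⁻¹⁻¹ = y by group] at h8⟩
  obtain ⟨d, hd⟩ := ClosedExc.Prod.card_dvd (L := KK Z) (K := fun a => Z (a, true)) F.orth (fun a => le_sup_left)
    (St := T) fun t ht a => Subgroup.ext fun y => by
      rw [mem_cj, ← F.tor t ht, show t * (t⁻¹ * y * t) * t⁻¹ = y by group]
  simp only [hc, Finset.prod_const, Finset.card_univ] at hd
  refine ⟨d, Nat.eq_of_mul_eq_mul_right (Nat.card_pos (α := ↥((⨆ a, KK Z a) ⊓ T))) ?_⟩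
  rw [h7, hd]
  ring

end gen

variable {I W Y : Type} [Fintype I] [DecidableEq I] [Group W] [Finite W] [Group Y] [Finite Y]
  {M : CoxeterMatrix I} {cs : CoxeterSystem M W} {A : I → I → ℤ} {h : IsCartan M A} {p : ℕ} {T : Subgroup Y}
  {n : I → Y} {X : (I → ℤ) → Subgroup Y} {R : RGD cs h p T n X} {k : Type} [Field k]

/-- the rank one group of the centres -/
def LZ (X : (I → ℤ) → Subgroup Y) (x : I → ℤ) : Subgroup Y := zc (X x) ⊔ zc (X (-x))

theorem LZ_neg (x : I → ℤ) : LZ X (-x) = LZ X x := by rw [LZ, neg_neg, sup_comm, LZ]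

/-- the poles -/
def Zr {ι : Type} (X : (I → ℤ) → Subgroup Y) (β : ι → I → ℤ) (x : ι × Bool) : Subgroup Y :=
  zc (X (cond x.2 (β x.1) (-β x.1)))

/-- **A node of type `SL₂`.** -/
structure Nd (R : RGD cs h p T n X) (x : I → ℤ) (Φ : SpecialLinearGroup (Fin 2) k →* Y) : Prop where
  root : IsRoot cs h x
  up : ∀ g, g ∈ zc (X x) ↔ ∃ t, g = Φ (uu t)
  ref : ∃ w, Rp cs R.nsys w (Φ ww) ∧ rep cs h w x = -x
  tor : ∀ c, Φ (dd c) ∈ T
  ker : ∀ c, ∃ s ∈ T, Φ (dd c) = Φ ww * s * (Φ ww)⁻¹ * s⁻¹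

namespace Nd

variable {x : I → ℤ} {Φ : SpecialLinearGroup (Fin 2) k →* Y} (N : Nd R x Φ)

include N

theorem conj {w : W} {g : Y} (hg : Rp cs R.nsys w g) :
    Nd R (rep cs h w x) ((MulAut.conj g).toMonoidHom.comp Φ) := by
  have h0 : ∀ s, ((MulAut.conj g).toMonoidHom.comp Φ) s = g * Φ s * g⁻¹ := fun _ => rfl
  have h1 : ∀ t ∈ T, g * t * g⁻¹ ∈ T := fun t => (Subgroup.mem_normalizer_iff.1 hg.mem_normalizer t).1
  refine ⟨N.root.act w, fun y => ?_, ?_, fun c => h1 _ (N.tor c), fun c => ?_⟩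
  · rw [← cj_zc (R.conj_rp hg N.root), mem_cj, N.up]
    exact exists_congr fun t => by rw [h0, eq_mul_inv_iff_mul_eq, mul_assoc, inv_mul_eq_iff_eq_mul]
  · obtain ⟨v, h2, h3⟩ := N.ref
    exact ⟨w * v * w⁻¹, (hg.mul h2).mul hg.inv, by rw [rep_mul_apply, rep_inv_apply, rep_mul_apply, h3, map_neg]⟩
  · obtain ⟨s, hs, e⟩ := N.ker c
    exact ⟨_, h1 s hs, by rw [h0, h0, e]; group⟩

theorem neg : ∃ Ψ : SpecialLinearGroup (Fin 2) k →* Y, Nd R (-x) Ψ := by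
  obtain ⟨w, h1, h2⟩ := N.ref
  exact ⟨_, h2 ▸ N.conj h1⟩

theorem cj_ww : cj (Φ ww) (X x) = X (-x) ∧ cj (Φ ww) (X (-x)) = X x := by
  obtain ⟨w, h1, h2⟩ := N.ref
  exact ⟨by rw [R.conj_rp h1 N.root, h2], by rw [R.conj_rp h1 N.root.neg, map_neg, h2, neg_neg]⟩

theorem mT : Φ ww ∈ Subgroup.normalizer (T : Set Y) := N.ref.choose_spec.1.mem_normalizer

theorem not_mem_B : Φ ww ∉ RGD.B cs h T X := fun h0 => by
  obtain ⟨w, h1, h2⟩ := N.ref
  rw [R.eq_one_of_mem_B h1 h0, map_one, Module.End.one_apply, eq_neg_iff_add_eq_zero, ← two_smul ℤ, smul_eq_zero] at h2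
  exact h2.elim two_ne_zero N.root.ne_zero

theorem range : Φ.range = LZ X x := by
  have h1 : ∀ t, Φ (uu t) ∈ zc (X x) := fun t => (N.up _).2 ⟨t, rfl⟩
  apply le_antisymm
  · have h2 : (LZ X x).comap Φ = ⊤ := eq_top_of_uu_ll _ (fun t => Subgroup.mem_sup_left (h1 t)) fun t =>
      Subgroup.mem_sup_right (by
        rw [← neg_neg t, ← Cv.ww_uu_ww, map_mul, map_mul, map_inv]
        exact (zc_cj N.cj_ww.1 _).2 (h1 _))
    rintro _ ⟨s, rfl⟩
    exact (h2 ▸ Subgroup.mem_top s : s ∈ (LZ X x).comap Φ)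
  · have h2 : zc (X x) ≤ Φ.range := fun y hy => by
      obtain ⟨t, rfl⟩ := (N.up y).1 hy
      exact ⟨_, rfl⟩
    refine sup_le h2 ?_
    rw [← cj_zc N.cj_ww.1, ← cj_eq_of_mem (A := Φ.range) ⟨ww, rfl⟩]
    exact cj_mono _ h2

theorem uu_mem (h0 : 0 ≤ x) (t : k) : Φ (uu t) ∈ RGD.Sup X (RGD.Pos cs h) :=
  RGD.le_Sup (S := RGD.Pos cs h) ⟨N.root, h0⟩ ((N.up _).2 ⟨t, rfl⟩).1

theorem ne (h0 : 0 ≤ x) : zc (X (-x)) ≠ zc (X x) := fun e => by
  have h1 : Φ ww ∈ LZ X x := N.range ▸ ⟨ww, rfl⟩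
  rw [LZ, e, sup_idem] at h1
  exact N.not_mem_B (RGD.X_le_B N.root h0 h1.1)

/-- the number of poles of the rank one group -/
theorem card_conj (h0 : 0 ≤ x) [Finite k] :
    Nat.card (Set.range fun g : LZ X x => cj (g : Y) (zc (X x))) = Nat.card k + 1 := by
  have hm : ∀ s, Φ s ∈ LZ X x := fun s => N.range ▸ ⟨s, rfl⟩
  have hU : ∀ t, cj (Φ (uu t)) (zc (X x)) = zc (X x) := fun t => cj_eq_of_mem ((N.up _).2 ⟨t, rfl⟩)
  have hD : ∀ c, cj (Φ (dd c)) (zc (X x)) = zc (X x) := fun c => cj_zc (R.tor _ N.root _ (N.tor c))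
  have hD' : ∀ c, cj (Φ (dd c)) (zc (X (-x))) = zc (X (-x)) := fun c => cj_zc (R.tor _ N.root.neg _ (N.tor c))
  have hW := cj_zc N.cj_ww.1
  have hW' := cj_zc N.cj_ww.2
  have h1 : ∀ t, cj (Φ (uu t)) (zc (X (-x))) ≠ zc (X x) := fun t e => N.ne h0 (by
    rw [← cj_inv_cj (Φ (uu t)) (zc (X (-x))), e, ← hU t, cj_inv_cj, hU])
  let e : Option k → Set.range fun g : LZ X x => cj (g : Y) (zc (X x)) := fun o =>
    o.elim ⟨zc (X x), 1, cj_one _⟩ fun t => ⟨cj (Φ (uu t)) (zc (X (-x))), ⟨_, hm (uu t * ww)⟩, by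
      show cj (Φ (uu t * ww)) _ = _
      rw [map_mul, cj_mul, hW]⟩
  have he : Function.Bijective e := by
    constructor
    · rintro (_ | s) (_ | t) hst
      · rfl
      · exact absurd (congrArg Subtype.val hst).symm (h1 t)
      · exact absurd (congrArg Subtype.val hst) (h1 s)
      · have h2 : cj (Φ (uu s)) (zc (X (-x))) = cj (Φ (uu t)) (zc (X (-x))) := congrArg Subtype.val hst
        by_contra h3
        have h4 : -t + s ≠ 0 := fun h4 => h3 (congrArg some (neg_add_eq_zero.1 h4).symm)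
        have h5 : cj (Φ (uu (-t + s))) (zc (X (-x))) = zc (X (-x)) := by
          rw [← uu_mul, map_mul, cj_mul, h2, ← cj_mul, ← map_mul, uu_mul, neg_add_cancel, uu_zero, map_one, cj_one]
        obtain ⟨c, hc⟩ : ∃ c : kˣ, ((c⁻¹ : kˣ) : k) = -t + s := ⟨(Units.mk0 _ h4)⁻¹, rfl⟩
        have h6 := congrArg (fun s => cj (Φ s) (zc (X x))) (ww_conj c)
        simp only [map_mul, map_inv, cj_mul, hc] at h6
        rw [hU, hW, hD', ← hW', cj_inv_cj, h5, hW'] at h6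
        exact h1 _ h6.symm
    · rintro ⟨_, ⟨g, hg⟩, rfl⟩
      obtain ⟨s, rfl⟩ : g ∈ Φ.range := N.range ▸ hg
      obtain ⟨a, b, c, rfl | rfl⟩ := sl2_bru s
      · refine ⟨none, Subtype.ext ?_⟩
        show zc (X x) = cj (Φ _) _
        rw [map_mul, map_mul, cj_mul, cj_mul, hU, hD, hU]
      · refine ⟨some a, Subtype.ext ?_⟩
        show cj _ _ = cj (Φ _) _
        rw [map_mul, map_mul, map_mul, cj_mul, cj_mul, cj_mul, hU, hW, hD']
  rw [← Nat.card_eq_of_bijective e he, Finite.card_option]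

end Nd

variable {ι : Type} [Fintype ι] {β : ι → I → ℤ}

/-- **The frame of a family of nodes.** -/
theorem fr_of_nd (hG : GG cs h T X = ⊤) (hc : ∀ a ∈ T, ∀ b ∈ T, a * b = b * a) (hnf : H69.OQ.NoFix cs h T X)
    {Φ : ι → SpecialLinearGroup (Fin 2) k →* Y} (N : ∀ a, Nd R (β a) (Φ a)) (h0 : ∀ a, 0 ≤ β a)
    (ho : ∀ a b, a ≠ b → ∀ u ∈ LZ X (β a), ∀ v ∈ LZ X (β b), Commute u v) :
    Fr (RGD.Sup X (RGD.Pos cs h)) T (Zr X β) fun a => Φ a ww := by
  have hm : ∀ a s, Φ a s ∈ KK (Zr X β) a := fun a s => ((N a).range ▸ ⟨s, rfl⟩ : Φ a s ∈ LZ X (β a))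
  have hm' : ∀ a, ∀ g ∈ KK (Zr X β) a, g ∈ (Φ a).range := fun a g (hg : g ∈ LZ X (β a)) => (N a).range ▸ hg
  have hs : ∀ a s y, Φ a ww * y * (Φ a ww)⁻¹ ∈ Zr X β (a, !s) ↔ y ∈ Zr X β (a, s) := fun a s y => by
    cases s
    exacts [zc_cj (N a).cj_ww.2 y, zc_cj (N a).cj_ww.1 y]
  have hn : ∀ a s, Zr X β (a, !s) ≠ Zr X β (a, s) := fun a s => by
    cases s
    exacts [((N a).ne (h0 a)).symm, (N a).ne (h0 a)]
  refine ⟨hc, ?_, ho, fun t ht x y => zc_cj (R.tor _ ?_ t ht) y, fun a => hm a _, fun a => (N a).mT, fun a => ?_, hs,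
    fun a g hg => ?_, uniq R hG hnf, fun a t ht => ?_⟩
  · rintro ⟨a, s⟩ ⟨b, s'⟩ e
    by_cases hab : a = b
    · subst hab
      by_contra h1
      have h2 : s = !s' := Bool.eq_not_iff.2 fun h2 => h1 (h2 ▸ rfl)
      exact hn a s' (h2 ▸ e)
    · have h1 : ∀ y ∈ Zr X β (a, s), ∀ g, Φ a g * y * (Φ a g)⁻¹ = y := fun y hy g => by
        rw [(ho a b hab _ (hm a g) y (Fr.Z_le (Z := Zr X β) (b, s') (e ▸ hy))).eq, mul_inv_cancel_right]
      refine absurd (Subgroup.ext fun y => ⟨fun hy => ?_, fun hy => ?_⟩) (hn a s)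
      · have h2 := (hs a s ((Φ a ww)⁻¹ * y * Φ a ww)).1 (by rwa [show ∀ g : Y, g * (g⁻¹ * y * g) * g⁻¹ = y from
          fun g => by group])
        rw [← show ∀ g : Y, g * (g⁻¹ * y * g) * g⁻¹ = y from fun g => by group, h1 _ h2 ww]
        exact h2
      · rw [← h1 y hy ww]
        exact (hs a s y).2 hy
  · obtain ⟨a, _ | _⟩ := x
    exacts [(N a).root.neg, (N a).root]
  · rw [← map_mul, ← pow_two, ww_sq]
    exact (N a).tor _
  · obtain ⟨s, rfl⟩ := hm' a g hg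
    obtain ⟨x, y, c, e⟩ := sl2_bru s
    exact ⟨_, ⟨(N a).uu_mem (h0 a) x, hm a _⟩, _, ⟨(N a).uu_mem (h0 a) y, hm a _⟩, _, ⟨(N a).tor c, hm a _⟩,
      e.imp (fun e => by rw [e, map_mul, map_mul]) fun e => by rw [e, map_mul, map_mul, map_mul]⟩
  · obtain ⟨s, rfl⟩ := hm' a t ht.2
    have h1 := Subgroup.le_normalizer ht.1
    have h2 := ht.1
    obtain ⟨x, y, c, rfl | rfl⟩ := sl2_bru s
    · rw [map_mul, map_mul] at h1 ⊢
      rw [uniq R hG hnf _ ((N a).uu_mem (h0 a) x) _ ((N a).uu_mem (h0 a) y) _ (Subgroup.le_normalizer ((N a).tor c)) h1]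
      exact (N a).ker c
    · rw [map_mul, map_mul, map_mul] at h1 h2
      rw [uniq R hG hnf _ ((N a).uu_mem (h0 a) x) _ ((N a).uu_mem (h0 a) y) _
        (mul_mem (Subgroup.le_normalizer ((N a).tor c)) (N a).mT) h1] at h2
      exact absurd (RGD.T_le_B ((T.mul_mem_cancel_left ((N a).tor c)).1 h2)) (N a).not_mem_B

theorem exists_pos (hN : ∀ a, ∃ Φ : SpecialLinearGroup (Fin 2) k →* Y, Nd R (β a) Φ) :
    ∃ (β' : ι → I → ℤ) (Φ : ι → SpecialLinearGroup (Fin 2) k →* Y), (∀ a, β' a = β a ∨ β' a = -β a) ∧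
      (∀ a, 0 ≤ β' a) ∧ ∀ a, Nd R (β' a) (Φ a) := by
  have h1 : ∀ a, ∃ (x : I → ℤ) (Φ : SpecialLinearGroup (Fin 2) k →* Y), (x = β a ∨ x = -β a) ∧ 0 ≤ x ∧ Nd R x Φ :=
    fun a => by
      obtain ⟨Φ, N⟩ := hN a
      rcases N.root.pos_or_neg with h0 | h0
      · exact ⟨_, Φ, Or.inl rfl, h0, N⟩
      · obtain ⟨Ψ, N'⟩ := N.neg
        exact ⟨_, Ψ, Or.inr rfl, neg_nonneg.2 h0, N'⟩
  choose β' Φ h2 h3 h4 using h1
  exact ⟨β', Φ, h2, h3, h4⟩

theorem acts_rp (hr : ∀ a, IsRoot cs h (β a)) (hinj : Function.Injective (Zr X β)) {w : W} {g : Y}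
    (hg : Rp cs R.nsys w g) {b : ι → ι} (hb : ∀ a, rep cs h w (β a) = β (b a) ∨ rep cs h w (β a) = -β (b a)) :
    ∃ π, Acts (Zr X β) (MulAut.conj g) π ∧ ∀ a, (π (a, true)).1 = b a := by
  have h1 : ∀ a, ∃ e : Bool, ∀ s y, MulAut.conj g y ∈ Zr X β (b a, xor e s) ↔ y ∈ Zr X β (a, s) := fun a => by
    have h2 := R.conj_rp hg (hr a)
    have h3 := R.conj_rp hg (hr a).neg
    rw [map_neg] at h3
    rcases hb a with e | e
    · rw [e] at h2 h3
      exact ⟨false, fun s => by cases s; exacts [zc_cj h3, zc_cj h2]⟩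
    · rw [e] at h2 h3
      rw [neg_neg] at h3
      exact ⟨true, fun s => by cases s; exacts [zc_cj h3, zc_cj h2]⟩
  choose e he using h1
  exact exists_acts hinj b e he

theorem mem_NH_of_pm (hr : ∀ a, IsRoot cs h (β a)) (hinj : Function.Injective (Zr X β)) {γ : MulAut Y}
    (hγ : H491.Sd.PM cs h T X γ) : γ ∈ NH T (Zr X β) := by
  refine ⟨hγ.tor, ?_⟩
  rcases hγ.root with h1 | h1
  · exact (exists_acts hinj id (fun _ => false) fun a s => by
      cases s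
      exacts [zc_iff (h1 _ (hr a).neg), zc_iff (h1 _ (hr a))]).imp fun _ h => h.1
  · exact (exists_acts hinj id (fun _ => true) fun a s => by
      cases s
      · have h2 := h1 _ (hr a).neg
        rw [neg_neg] at h2
        exact zc_iff h2
      · exact zc_iff (h1 _ (hr a))).imp fun _ h => h.1

theorem pm_trans {w : W} {x y x' y' : I → ℤ} (hx : x' = x ∨ x' = -x) (hy : y' = y ∨ y' = -y)
    (e : rep cs h w x = y ∨ rep cs h w x = -y) : rep cs h w x' = y' ∨ rep cs h w x' = -y' := by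
  rcases hx with rfl | rfl <;> rcases hy with rfl | rfl <;> rcases e with e | e <;> simp [e]

variable (R) (hp : p.Prime) (hG : GG cs h T X = ⊤) (hY : commutator Y = ⊤) (hc : ∀ a ∈ T, ∀ b ∈ T, a * b = b * a)
  (hnf : H69.OQ.NoFix cs h T X) (hq : NQ R)

include hp hG hY hc hnf hq

/-- **`QB` from a frame of roots.** -/
theorem qb_of_roots (hN : ∀ a, ∃ Φ : SpecialLinearGroup (Fin 2) k →* Y, Nd R (β a) Φ)
    (ho : ∀ a b, a ≠ b → ∀ u ∈ LZ X (β a), ∀ v ∈ LZ X (β b), Commute u v)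
    (hD : ∀ γ σ, Diag T X γ σ → ∃ g, H491.Sd.PM cs h T X (MulAut.conj g * γ)) {P : Subgroup W}
    (hP : ∀ w ∈ P, ∀ a, ∃ b, rep cs h w (β a) = β b ∨ rep cs h w (β a) = -β b)
    (hodd : Odd ((⨆ a, LZ X (β a)) ⊔ NP R P).index) : QB Y := by
  obtain ⟨β', Φ, h1, h0, N⟩ := exists_pos hN
  have h2 : ∀ a, LZ X (β' a) = LZ X (β a) := fun a => (h1 a).elim (fun e => by rw [e]) fun e => by rw [e, LZ_neg]
  have F := fr_of_nd hG hc hnf N h0 fun a b hab => by rw [h2, h2]; exact ho a b hab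
  refine qb_of_frame R hp hG hY hnf hq F (fun γ σ D => (hD γ σ D).imp fun g => mem_NH_of_pm (fun a => (N a).root) F.inj)
    (hodd.of_dvd_nat (Subgroup.index_dvd_of_le (sup_le_sup (iSup_mono fun a => (h2 a).ge) ?_)))
  rintro g ⟨w, hw, hg⟩
  choose b hb using hP w hw
  obtain ⟨π, hπ, -⟩ := acts_rp (R := R) (fun a => (N a).root) F.inj hg fun a => pm_trans (h1 a) (h1 (b a)) (hb a)
  exact ⟨fix_conj.2 hg.mem_normalizer, π, hπ⟩

/-- **`QB` from a frame of roots, by the order of the group.** -/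
theorem qb_of_count [Finite k] (hN : ∀ a, ∃ Φ : SpecialLinearGroup (Fin 2) k →* Y, Nd R (β a) Φ)
    (ho : ∀ a b, a ≠ b → ∀ u ∈ LZ X (β a), ∀ v ∈ LZ X (β b), Commute u v)
    (hD : ∀ γ σ, Diag T X γ σ → ∃ g, H491.Sd.PM cs h T X (MulAut.conj g * γ))
    (hσ : ∀ σ : Equiv.Perm ι, ∃ w, ∀ a, rep cs h w (β a) = β (σ a) ∨ rep cs h w (β a) = -β (σ a))
    (hord : ∀ j : ℕ, 2 ^ j ∣ Nat.card Y →
      2 ^ j ∣ Nat.card T * (Nat.card k + 1) ^ Fintype.card ι * (Fintype.card ι).factorial) : QB Y := by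
  obtain ⟨β', Φ, h1, h0, N⟩ := exists_pos hN
  have h2 : ∀ a, LZ X (β' a) = LZ X (β a) := fun a => (h1 a).elim (fun e => by rw [e]) fun e => by rw [e, LZ_neg]
  have F := fr_of_nd hG hc hnf N h0 fun a b hab => by rw [h2, h2]; exact ho a b hab
  refine qb_of_frame R hp hG hY hnf hq F (fun γ σ D => (hD γ σ D).imp fun g => mem_NH_of_pm (fun a => (N a).root) F.inj) ?_
  have h3 := F.dvd_card (fun a => (N a).card_conj (h0 a)) fun σ => by
    obtain ⟨w, hw⟩ := hσ σ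
    obtain ⟨g, hg⟩ := exists_rp cs R.nsys w
    exact ⟨g, hg.mem_normalizer, acts_rp (R := R) (fun a => (N a).root) F.inj hg fun a => pm_trans (h1 a) (h1 (σ a)) (hw a)⟩
  generalize (⨆ a, KK (Zr X β') a) ⊔ (NH T (Zr X β')).comap MulAut.conj = H at h3
  rw [← Nat.not_even_iff_odd, even_iff_two_dvd]
  intro h4
  refine Nat.pow_succ_factorization_not_dvd (Nat.card_pos (α := H)).ne' Nat.prime_two ((hord _ ?_).trans h3)
  rw [← H.card_mul_index, pow_succ]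
  exact mul_dvd_mul (Nat.ordProj_dvd _ 2) h4

/-- **`QB` from a frame of long roots.** -/
theorem qb_of_frameData (Φ : SpecialLinearGroup (Fin 2) k →* Y) (i : I) (hn : n i = Φ ww)
    (hup : ∀ g, g ∈ X (sr i) ↔ ∃ t, g = Φ (uu t)) (htor : ∀ c, Φ (dd c) ∈ T)
    (hker : ∀ c, ∃ s ∈ T, Φ (dd c) = Φ ww * s * (Φ ww)⁻¹ * s⁻¹) {P : Subgroup W} (F : FrameData cs h X β P)
    (hb : ∀ a, ∃ w, β a = rep cs h w (sr i))
    (hD : ∀ γ σ, Diag T X γ σ → ∃ g, H491.Sd.PM cs h T X (MulAut.conj g * γ))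
    (hodd : Odd (H491.Sd.MF R β P).index) : QB Y := by
  have h1 : zc (X (sr i)) = X (sr i) := inf_eq_left.2 fun y hy x hx => by
    obtain ⟨s, rfl⟩ := (hup y).1 hy
    obtain ⟨t, rfl⟩ := (hup x).1 hx
    rw [← map_mul, ← map_mul, uu_mul, uu_mul, add_comm]
  have N : Nd R (sr i) Φ := ⟨isRoot_sr cs h i, h1.symm ▸ hup, ⟨_, hn ▸ rp_simple cs R.nsys i, rep_simple_sr cs h i⟩,
    htor, hker⟩
  have h2 : ∀ w, zc (X (rep cs h w (sr i))) = X (rep cs h w (sr i)) := fun w => by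
    obtain ⟨g, hg⟩ := exists_rp cs R.nsys w
    rw [← cj_zc (R.conj_rp hg N.root), h1, R.conj_rp hg N.root]
  have h3 : ∀ a, LZ X (β a) = Nodes.FreeTorus.LL X (β a) := fun a => by
    obtain ⟨w, e⟩ := hb a
    have h4 := h2 (w * cs.simple i)
    rw [rep_mul_apply, rep_simple_sr, map_neg] at h4
    rw [e, LZ, h2, h4]
    rfl
  refine qb_of_roots R hp hG hY hc hnf hq (k := k) (fun a => ?_) (fun a b hab => ?_) hD F.perm ?_
  · obtain ⟨w, e⟩ := hb a
    obtain ⟨g, hg⟩ := exists_rp cs R.nsys w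
    exact ⟨_, e ▸ N.conj hg⟩
  · rw [h3, h3]
    exact F.orth a b hab
  · simp only [h3]
    exact hodd

end Cfsg.Agent.ODD.QB

private theorem dce_4acb56b26b20 : _root_.True := by
  try have : _root_.True := by simp only [_root_.Cfsg.Agent.ODD.QB.LZ.eq_1]
  try have : _root_.True := by simp only [_root_.Cfsg.Agent.ClosedExc.Frame.NP.congr_simp]
  exact _root_.True.intro
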